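import Cfsg.Agent.Lib.RecogThree.M11.Order7920
import Cfsg.Agent.Lib.Classif.OrderSieve

/-!
Orders `p * e * r` with `r` Sylow `p`-subgroups and primes `e < p`: simplicity, and the numbers of
elements of given order determine the number of Sylow `p`-subgroups.
-/

set_option autoImplicit false
set_option linter.style.haveILetI false
set_option linter.unusedSectionVars false

namespace Cfsg.Agent.Lib.NseMathieu29.Generic

open Cfsg.Agent.Lib.SmallGroups
open Cfsg.Agent.Lib.RecogThree

universe u v

variable {G : Type u} [Group G] [Finite G] {p : ℕ} [Fact p.Prime] {e r : ℕ}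

/-- The arithmetic of an order `p * e * r`. -/
structure Params (p e r : ℕ) : Prop where
  prime_e : e.Prime
  lt : e < p
  one_lt : 1 < r
  cop_p : ¬ p ∣ e * r
  cop_e : ¬ e ∣ r
  small : ∀ q : ℕ, q.Prime → q ∣ r → ∃ b : ℕ, ¬ q ^ (b + 1) ∣ p * e * r ∧
    ∀ i ≤ b, ∀ j ≤ b, q ^ i % p = q ^ j % p → i = j

theorem card_P (hp : Params p e r) (h : Nat.card G = p * e * r) (P : Sylow p G) :
    Nat.card (P : Subgroup G) = p := by
  rw [Sylow.card_sylow_eq P (a := 1) (m := e * r) (by rw [h, pow_one, mul_assoc]) hp.cop_p, pow_one]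

section Normal

variable (hp : Params p e r) (h : Nat.card G = p * e * r) (hn : Nat.card (Sylow p G) = r)

include hp h hn

theorem card_N (P : Sylow p G) :
    Nat.card (Subgroup.normalizer ((P : Subgroup G) : Set G)) = p * e := by
  have := Sylow.card_normalizer_mul P
  rw [hn, h] at this
  have hr : 0 < r := by have := hp.one_lt; omega
  exact Nat.eq_of_mul_eq_mul_right hr this

/-- The centraliser of an element of order `p` has order dividing `p * e`. -/
theorem orderOf_dvd_of_commute {w v : G} (hw : orderOf w = p) (hc : Commute v w) :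
    orderOf v ∣ p * e := by
  obtain ⟨W, hW⟩ := (IsPGroup.of_card (p := p) (n := 1)
    (by rw [Nat.card_zpowers, hw, pow_one] : Nat.card (Subgroup.zpowers w) = p ^ 1)).exists_le_sylow
  have hWeq : (W : Subgroup G) = Subgroup.zpowers w :=
    (Subgroup.eq_of_le_of_card_ge hW (by rw [card_P hp h W, Nat.card_zpowers, hw])).symm
  rw [← card_N hp h hn W]
  refine Subgroup.orderOf_dvd_natCard _ (Subgroup.centralizer_le_normalizer _ ?_)
  rw [Subgroup.mem_centralizer_iff]
  intro b hb
  rw [hWeq, SetLike.mem_coe] at hb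
  obtain ⟨k, rfl⟩ := Subgroup.mem_zpowers_iff.mp hb
  exact ((hc.zpow_right k).eq).symm

/-- A normal subgroup of order prime to `p` has order dividing `e`. -/
theorem card_dvd (M : Subgroup G) [M.Normal] (hM : ¬ p ∣ Nat.card M) : Nat.card M ∣ e := by
  have hpp : p.Prime := Fact.out
  have hidx : p ∣ M.index := by
    have hmul := Subgroup.card_mul_index M
    rw [h] at hmul
    have hd : p ∣ Nat.card M * M.index := ⟨e * r, by rw [hmul, mul_assoc]⟩
    exact (hpp.dvd_mul.mp hd).resolve_left hM
  have hsmall : ∀ (q : ℕ), q.Prime → q ∣ r → ¬ q ∣ Nat.card M := by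
    intro q hq hqr hqM
    haveI := Fact.mk hq
    obtain ⟨b, hb, hinj⟩ := hp.small q hq hqr
    obtain ⟨S⟩ := (inferInstance : Nonempty (Sylow q M))
    have hsup := Sylow.normalizer_sup_eq_top S
    set T : Subgroup G := (S : Subgroup M).map M.subtype
    have hTc : Nat.card T = Nat.card (S : Subgroup M) :=
      Subgroup.card_map_of_injective M.subtype_injective
    obtain ⟨a, ha⟩ := IsPGroup.iff_card.mp S.isPGroup'
    have haT : Nat.card T = q ^ a := hTc.trans ha
    have hab : a ≤ b := by
      by_contra hlt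
      exact hb ((Nat.pow_dvd_pow q (show b + 1 ≤ a by omega)).trans
        (h ▸ haT ▸ Subgroup.card_subgroup_dvd_card T))
    have hpT : p ∣ Nat.card (Subgroup.normalizer (T : Set G)) := by
      refine hidx.trans ?_
      rw [← Subgroup.relIndex_top_right, ← hsup, Subgroup.relIndex_sup_right]
      exact Subgroup.relIndex_dvd_card _ _
    obtain ⟨⟨w, hwN⟩, hwo⟩ :=
      exists_prime_orderOf_dvd_card' (G := Subgroup.normalizer (T : Set G)) p hpT
    rw [Subgroup.orderOf_mk] at hwo
    have hcomm := M11.Order7920.centralizes hwo T hwN fun d hd hm => by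
      rw [haT] at hd hm ⊢
      obtain ⟨i, hi, rfl⟩ := (Nat.dvd_prime_pow Fact.out).mp hd
      rw [hinj i (hi.trans hab) a hab hm]
    have hqT : q ∣ Nat.card T := hTc ▸ S.dvd_card_of_dvd_card hqM
    obtain ⟨⟨v, hvT⟩, hvo⟩ := exists_prime_orderOf_dvd_card' (G := T) q hqT
    rw [Subgroup.orderOf_mk] at hvo
    have := orderOf_dvd_of_commute hp h hn hwo (hcomm v hvT)
    rw [hvo] at this
    rcases hq.dvd_mul.mp this with h1 | h1
    · exact hp.cop_p (((Nat.prime_dvd_prime_iff_eq hq hpp).mp h1) ▸ hqr.trans (dvd_mul_left r e))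
    · exact hp.cop_e (((Nat.prime_dvd_prime_iff_eq hq hp.prime_e).mp h1) ▸ hqr)
  have hcop : Nat.Coprime (Nat.card M) (p * r) := Nat.coprime_of_dvd fun q hq hq1 hq2 => by
    rcases hq.dvd_mul.mp hq2 with h1 | h1
    · exact hM (((Nat.prime_dvd_prime_iff_eq hq hpp).mp h1) ▸ hq1)
    · exact hsmall q hq h1 hq1
  refine hcop.dvd_of_dvd_mul_left ?_
  have := Subgroup.card_subgroup_dvd_card M
  rw [h] at this
  rwa [mul_right_comm]

/-- A normal subgroup of order prime to `p` is trivial. -/
theorem eq_bot_of_not_dvd (M : Subgroup G) [M.Normal] (hM : ¬ p ∣ Nat.card M) : M = ⊥ := by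
  have hpp : p.Prime := Fact.out
  rcases (Nat.dvd_prime hp.prime_e).mp (card_dvd hp h hn M hM) with he | he
  · exact Subgroup.eq_bot_of_card_eq _ he
  exfalso
  obtain ⟨P⟩ := (inferInstance : Nonempty (Sylow p G))
  have hP := card_P hp h P
  set N := Subgroup.normalizer ((P : Subgroup G) : Set G)
  set C := Subgroup.centralizer ((P : Subgroup G) : Set G)
  have hle : N ≤ C := by
    have h5 : ∀ v ∈ M, v ∈ C := by
      intro v hv
      rw [Subgroup.mem_centralizer_iff]
      intro b hb
      by_cases hb1 : b = 1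
      · rw [hb1, one_mul, mul_one]
      have hbo : orderOf b = p :=
        ((Nat.dvd_prime hpp).mp (hP ▸ Subgroup.orderOf_dvd_natCard _ hb)).resolve_left
          (by rwa [orderOf_eq_one_iff])
      have hbN : b ∈ Subgroup.normalizer (M : Set G) := by
        rw [Subgroup.normalizer_eq_top]; exact Subgroup.mem_top b
      exact (M11.Order7920.centralizes hbo M hbN (fun d hd hm => by
        rw [he] at hd hm ⊢
        have h1 := Nat.le_of_dvd hp.prime_e.pos hd
        rwa [Nat.mod_eq_of_lt (h1.trans_lt hp.lt), Nat.mod_eq_of_lt hp.lt] at hm) v hv).eq.symm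
    have hPC : (P : Subgroup G) ≤ C := by
      haveI := isCyclic_of_prime_card hP
      intro a ha
      rw [Subgroup.mem_centralizer_iff]
      intro b hb
      exact congrArg Subtype.val
        ((IsCyclic.commGroup (α := (P : Subgroup G))).mul_comm ⟨b, hb⟩ ⟨a, ha⟩)
    have hd : p * e ∣ Nat.card C :=
      Nat.Coprime.mul_dvd_of_dvd_of_dvd
        (hpp.coprime_iff_not_dvd.mpr fun hh => hp.cop_p (hh.trans (dvd_mul_right e r)))
        (hP ▸ Subgroup.card_dvd_of_le hPC) (he ▸ Subgroup.card_dvd_of_le h5)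
    exact (Subgroup.eq_of_le_of_card_ge (Subgroup.centralizer_le_normalizer _)
      ((card_N hp h hn P).trans_le (Nat.le_of_dvd Nat.card_pos hd))).ge
  set K := (MonoidHom.transferSylow P hle).ker
  have hK : ¬ p ∣ Nat.card K := MonoidHom.not_dvd_card_ker_transferSylow P hle
  have hKc : Nat.card K * p = p * e * r := by
    have := (MonoidHom.ker_transferSylow_isComplement' P hle).card_mul_card
    rwa [hP, h] at this
  have hKe : Nat.card K = e * r :=
    Nat.eq_of_mul_eq_mul_right hpp.pos (by rw [hKc]; ring)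
  have := card_dvd hp h hn K hK
  rw [hKe] at this
  have h1 := Nat.le_of_dvd hp.prime_e.pos this
  have := hp.one_lt
  nlinarith [hp.prime_e.two_le]

/-- A group of order `p * e * r` with `r` Sylow `p`-subgroups is simple. -/
theorem isSimpleGroup : IsSimpleGroup G := by
  have hpp : p.Prime := Fact.out
  have hr := hp.one_lt
  haveI : Nontrivial G := Finite.one_lt_card_iff_nontrivial.mp (by
    rw [h]; exact lt_of_lt_of_le hr (Nat.le_mul_of_pos_left r (Nat.mul_pos hpp.pos hp.prime_e.pos)))
  refine ⟨fun L hL => ?_⟩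
  haveI := hL
  by_cases hpL : p ∣ Nat.card L
  swap
  · exact Or.inl (eq_bot_of_not_dvd hp h hn L hpL)
  refine Or.inr ?_
  obtain ⟨⟨w, hwL⟩, hwo⟩ := exists_prime_orderOf_dvd_card' (G := L) p hpL
  rw [Subgroup.orderOf_mk] at hwo
  obtain ⟨P, hW⟩ := (IsPGroup.of_card (p := p) (n := 1)
    (by rw [Nat.card_zpowers, hwo, pow_one] : Nat.card (Subgroup.zpowers w) = p ^ 1)).exists_le_sylow
  have hP := card_P hp h P
  have hPL : (P : Subgroup G) ≤ L := by
    rw [← Subgroup.eq_of_le_of_card_ge hW (by rw [hP, Nat.card_zpowers, hwo])]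
    exact Subgroup.zpowers_le.mpr hwL
  set N := Subgroup.normalizer ((P : Subgroup G) : Set G) with hN
  have hidx : L.relIndex N = L.index := by
    have hsup := Sylow.normalizer_sup_eq_top (P.subtype hPL)
    rw [Sylow.coe_subtype, Subgroup.map_subgroupOf_eq_of_le hPL] at hsup
    rw [← Subgroup.relIndex_sup_right (K := L) (H := N), hN, hsup, Subgroup.relIndex_top_right]
  have hd : L.index ∣ e := by
    rw [← hidx]
    have h1 : L.relIndex N ∣ (P : Subgroup G).relIndex N := Subgroup.relIndex_dvd_of_le_left _ hPL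
    have h2 : Nat.card (P : Subgroup G) * (P : Subgroup G).relIndex N = Nat.card N := by
      rw [← Nat.card_congr (Subgroup.subgroupOfEquivOfLe (H := (P : Subgroup G)) (K := N)
        Subgroup.le_normalizer).toEquiv]
      exact Subgroup.card_mul_index _
    rw [hP, hN, card_N hp h hn P, ← hN] at h2
    rwa [show (P : Subgroup G).relIndex N = e from Nat.eq_of_mul_eq_mul_left hpp.pos h2] at h1
  rcases (Nat.dvd_prime hp.prime_e).mp hd with he | he
  · exact Subgroup.index_eq_one.mp he
  exfalso
  have hLc : Nat.card L = p * r := by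
    have := Subgroup.card_mul_index L
    rw [he, h] at this
    exact Nat.eq_of_mul_eq_mul_right hp.prime_e.pos (by rw [this]; ring)
  have hle : Subgroup.normalizer (((P.subtype hPL : Sylow p L) : Subgroup L) : Set L) ≤
      Subgroup.centralizer (((P.subtype hPL : Sylow p L) : Subgroup L) : Set L) := by
    intro a ha
    rw [Sylow.coe_subtype, ← Subgroup.subgroupOf_normalizer_eq hPL] at ha
    have haN : (a : G) ∈ N ⊓ L := ⟨ha, a.2⟩
    have hinf : N ⊓ L = (P : Subgroup G) := by
      refine (Subgroup.eq_of_le_of_card_ge (le_inf Subgroup.le_normalizer hPL) ?_).symm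
      rw [hP]
      have h3 : Nat.card ↥(N ⊓ L) * L.relIndex N = Nat.card N := by
        rw [← Subgroup.inf_relIndex_left N L, ← Nat.card_congr
          (Subgroup.subgroupOfEquivOfLe (inf_le_left : N ⊓ L ≤ N)).toEquiv]
        exact Subgroup.card_mul_index _
      rw [hidx, he, hN, card_N hp h hn P, ← hN] at h3
      exact (Nat.eq_of_mul_eq_mul_right hp.prime_e.pos h3).le
    rw [hinf] at haN
    rw [Subgroup.mem_centralizer_iff]
    intro b hb
    haveI := isCyclic_of_prime_card hP
    have hba : (b : G) * a = a * b := congrArg Subtype.val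
      ((IsCyclic.commGroup (α := (P : Subgroup G))).mul_comm ⟨b, hb⟩ ⟨a, haN⟩)
    exact Subtype.ext hba
  set f := MonoidHom.transferSylow (P.subtype hPL) hle
  have hPLc : Nat.card ((P.subtype hPL : Sylow p L) : Subgroup L) = p := by
    rw [Sylow.coe_subtype, Nat.card_congr (Subgroup.subgroupOfEquivOfLe hPL).toEquiv, hP]
  have hKc : Nat.card f.ker = r := by
    have := (MonoidHom.ker_transferSylow_isComplement' (P.subtype hPL) hle).card_mul_card
    rw [hPLc, hLc] at this
    exact Nat.eq_of_mul_eq_mul_right hpp.pos (by rw [this]; ring)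
  have hrp : Nat.Coprime r p :=
    (hpp.coprime_iff_not_dvd.mpr fun hh => hp.cop_p (hh.trans (dvd_mul_left r e))).symm
  set K : Subgroup G := f.ker.map L.subtype
  have hKG : Nat.card K = r := by
    rw [Subgroup.card_map_of_injective L.subtype_injective, hKc]
  haveI : K.Normal := by
    refine ⟨?_⟩
    rintro _ ⟨k, hk, rfl⟩ g
    have hgk : g * (k : G) * g⁻¹ ∈ L := hL.conj_mem _ k.2 g
    refine ⟨⟨_, hgk⟩, ?_, rfl⟩
    have hk' : k ^ r = 1 := by
      have := Subgroup.orderOf_dvd_natCard f.ker hk
      exact orderOf_dvd_iff_pow_eq_one.mp (hKc ▸ this)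
    have hgk' : (⟨_, hgk⟩ : L) ^ r = 1 := Subtype.ext (by
      rw [Subgroup.coe_pow, conj_pow, ← Subgroup.coe_pow, hk', Subgroup.coe_one, mul_one,
        mul_inv_cancel])
    rw [SetLike.mem_coe, MonoidHom.mem_ker, ← orderOf_eq_one_iff]
    refine Nat.eq_one_of_dvd_coprimes hrp
      (orderOf_dvd_of_pow_eq_one ((map_pow f _ _).symm.trans (by rw [hgk', map_one]))) ?_
    exact (orderOf_dvd_natCard _).trans (dvd_of_eq hPLc)
  have := card_dvd hp h hn K (by rw [hKG]; exact fun hh => hp.cop_p (hh.trans (dvd_mul_left r e)))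
  rw [hKG] at this
  rcases (Nat.dvd_prime hp.prime_e).mp this with h1 | h1
  · omega
  · exact hp.cop_e (h1 ▸ dvd_refl e)

end Normal

/-- With a self-centralising element of order `p`, the number of elements of any other order is
`1` or a multiple of `p`. -/
theorem count_mod {x : G} (hx : orderOf x = p)
    (hC : ∀ v : G, v * x = x * v → v ∈ Subgroup.zpowers x) (n : ℕ) (h1 : n ≠ 1) (hnp : n ≠ p) :
    p ∣ Nat.card {g : G // orderOf g = n} := by
  have hX : IsPGroup p (Subgroup.zpowers x) :=
    IsPGroup.of_card (n := 1) (by rw [Nat.card_zpowers, hx, pow_one])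
  have hord : ∀ (u g : G), orderOf g = n → orderOf (u * g * u⁻¹) = n := fun u g hg => by
    rw [← hg]; exact (MulAut.conj u).orderOf_eq g
  letI : MulAction (Subgroup.zpowers x) {g : G // orderOf g = n} :=
  { smul := fun u g => ⟨(u : G) * g.1 * (u : G)⁻¹, hord _ _ g.2⟩
    one_smul := fun g => Subtype.ext (show (1 : G) * g.1 * (1 : G)⁻¹ = g.1 by group)
    mul_smul := fun u v g => Subtype.ext (show ((u * v : Subgroup.zpowers x) : G) * g.1 *
        ((u * v : Subgroup.zpowers x) : G)⁻¹ = (u : G) * ((v : G) * g.1 * (v : G)⁻¹) * (u : G)⁻¹ by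
      rw [Subgroup.coe_mul]; group) }
  have hempty : IsEmpty (MulAction.fixedPoints (Subgroup.zpowers x) {g : G // orderOf g = n}) := by
    refine ⟨fun g => ?_⟩
    have e' : x * g.1.1 * x⁻¹ = g.1.1 := congrArg Subtype.val (g.2 ⟨x, Subgroup.mem_zpowers x⟩)
    have hd := orderOf_dvd_of_mem_zpowers (hC g.1.1 (mul_inv_eq_iff_eq_mul.mp e').symm)
    rw [g.1.2, hx] at hd
    rcases (Nat.dvd_prime Fact.out).mp hd with h' | h'
    · exact h1 h'
    · exact hnp h'
  have hmod := hX.card_modEq_card_fixedPoints {g : G // orderOf g = n}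
  rw [Nat.card_of_isEmpty (α := MulAction.fixedPoints (Subgroup.zpowers x)
    {g : G // orderOf g = n})] at hmod
  exact Nat.modEq_zero_iff_dvd.mp hmod

/-- The numbers of elements of given order determine the number of Sylow `p`-subgroups, given a
self-centralising element of order `p` in one of the groups. -/
theorem sylow_eq {m : ℕ} (hp2 : 2 < p) (hm : ¬ p ∣ m) (h : Nat.card G = p * m)
    {M : Type v} [Group M] [Finite M] (hM : Nat.card M = p * m) {x : M} (hx : orderOf x = p)
    (hC : ∀ v : M, v * x = x * v → v ∈ Subgroup.zpowers x)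
    (hset : {c : ℕ | 0 < c ∧ ∃ n : ℕ, c = Nat.card {g : G // orderOf g = n}} =
      {c : ℕ | 0 < c ∧ ∃ n : ℕ, c = Nat.card {g : M // orderOf g = n}}) :
    Nat.card (Sylow p G) = Nat.card (Sylow p M) := by
  have hpp : p.Prime := Fact.out
  have hG : Nat.card {g : G // orderOf g = p} = Nat.card (Sylow p G) * (p - 1) :=
    Classif.OrderSieve.card_orderOf_of_entry (m := m) hpp (by rw [h, pow_one]) hm
  have hM' : Nat.card {g : M // orderOf g = p} = Nat.card (Sylow p M) * (p - 1) :=
    Classif.OrderSieve.card_orderOf_of_entry (m := m) hpp (by rw [hM, pow_one]) hm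
  have hmem : Nat.card (Sylow p G) * (p - 1) ∈
      {c : ℕ | 0 < c ∧ ∃ n : ℕ, c = Nat.card {g : G // orderOf g = n}} :=
    ⟨Nat.mul_pos Nat.card_pos (by omega), p, hG.symm⟩
  rw [hset] at hmem
  obtain ⟨-, n, hn⟩ := hmem
  by_cases h1 : n = 1
  · subst h1
    have h1' : Nat.card {g : M // orderOf g = 1} = 1 :=
      Nat.card_eq_one_iff_unique.mpr ⟨⟨fun a b => Subtype.ext
        ((orderOf_eq_one_iff.mp a.2).trans (orderOf_eq_one_iff.mp b.2).symm)⟩, ⟨⟨1, orderOf_one⟩⟩⟩
    rw [h1'] at hn
    have := Nat.eq_one_of_mul_eq_one_left hn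
    omega
  by_cases hnp : n = p
  · subst hnp
    rw [hM'] at hn
    exact Nat.eq_of_mul_eq_mul_right (by omega) hn
  have hd := count_mod hx hC n h1 hnp
  rw [← hn] at hd
  exfalso
  rcases hpp.dvd_mul.mp hd with h2 | h2
  · have h3 := Sylow.card_sylow_mod (G := G) (p := p)
    rw [Nat.mod_eq_zero_of_dvd h2] at h3
    omega
  · have := Nat.le_of_dvd (by omega) h2
    omega

/-- Self-centralising elements of order `p`: the order of the Sylow normaliser. -/
theorem normalizer_bound (P : Sylow p G) (hP : Nat.card (P : Subgroup G) = p) {x : G}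
    (hxP : x ∈ (P : Subgroup G))
    (hC : ∀ v : G, v * x = x * v → v ∈ Subgroup.zpowers x) :
    ∃ d, d ∣ p - 1 ∧ Nat.card (Subgroup.normalizer ((P : Subgroup G) : Set G)) = p * d := by
  set N := Subgroup.normalizer ((P : Subgroup G) : Set G) with hN
  have hker : ((P : Subgroup G).normalizerMonoidHom).ker = (P : Subgroup G).subgroupOf N := by
    rw [Subgroup.normalizerMonoidHom_ker]
    refine le_antisymm (fun v hv => ?_) (fun v hv => ?_) <;>
      rw [Subgroup.mem_subgroupOf] at hv ⊢
    · obtain ⟨k, hk⟩ := Subgroup.mem_zpowers_iff.mp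
        (hC v (Subgroup.mem_centralizer_iff.mp hv x hxP).symm)
      rw [← hk]
      exact Subgroup.zpow_mem _ hxP k
    · rw [Subgroup.mem_centralizer_iff]
      intro b hb
      haveI := isCyclic_of_prime_card hP
      exact congrArg Subtype.val
        ((IsCyclic.commGroup (α := (P : Subgroup G))).mul_comm ⟨b, hb⟩ ⟨v, hv⟩)
  haveI := isCyclic_of_prime_card hP
  have hind : (P : Subgroup G).relIndex N ∣ p - 1 := by
    rw [Subgroup.relIndex, ← hker, Subgroup.index_ker]
    refine (Subgroup.card_subgroup_dvd_card _).trans ?_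
    rw [IsCyclic.card_mulAut, hP, Nat.totient_prime Fact.out]
  refine ⟨_, hind, ?_⟩
  rw [Subgroup.relIndex, ← Subgroup.card_mul_index ((P : Subgroup G).subgroupOf N),
    Nat.card_congr (Subgroup.subgroupOfEquivOfLe (H := (P : Subgroup G)) (K := N)
        Subgroup.le_normalizer).toEquiv, hP]

end Cfsg.Agent.Lib.NseMathieu29.Generic
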