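import Cfsg.Agent.Lib.NseMathieu29.Generic
import Cfsg.Agent.Lib.MathieuBlocks.M22Degree
import Cfsg.Agent.Lib.Golay.Simple

/-!
Groups of order `443520` with the numbers of elements of given order of `M₂₂` are simple.
-/

set_option autoImplicit false
set_option linter.style.haveILetI false

namespace Cfsg.Agent.Lib.NseMathieu29.M22

open Cfsg Cfsg.Agent.Lib.MathieuBlocks Cfsg.Agent.Lib.MathieuBlocks.M22Elements
open Cfsg.Agent.Lib.MathieuBlocks.Search Cfsg.Agent.Lib.Golay

theorem params : Generic.Params 11 5 8064 where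
  prime_e := by norm_num
  lt := by norm_num
  one_lt := by norm_num
  cop_p := by norm_num
  cop_e := by norm_num
  small q hq hqd := by
    have hq' : q = 2 ∨ q = 3 ∨ q = 7 := by
      rw [show (8064 : ℕ) = 2 ^ 7 * (3 ^ 2 * 7) by norm_num] at hqd
      rcases hq.dvd_mul.mp hqd with h | h
      · exact Or.inl ((Nat.prime_dvd_prime_iff_eq hq Nat.prime_two).mp (hq.dvd_of_dvd_pow h))
      rcases hq.dvd_mul.mp h with h | h
      · exact Or.inr (Or.inl ((Nat.prime_dvd_prime_iff_eq hq Nat.prime_three).mp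
          (hq.dvd_of_dvd_pow h)))
      · exact Or.inr (Or.inr ((Nat.prime_dvd_prime_iff_eq hq (by norm_num)).mp h))
    rcases hq' with rfl | rfl | rfl
    · exact ⟨7, by norm_num, by decide +kernel⟩
    · exact ⟨2, by norm_num, by decide +kernel⟩
    · exact ⟨1, by norm_num, by decide +kernel⟩

theorem exists_x : ∃ x : Spor.M22, orderOf x = 11 ∧
    ∀ v : Spor.M22, v * x = x * v → v ∈ Subgroup.zpowers x := by
  obtain ⟨g, hg, hord, -⟩ := M22Degree.exists_element (by norm_num : Nat.Prime 11) element11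
  refine ⟨g, hord, fun u hu => ?_⟩
  have hu' := congrArg Subtype.val hu
  rw [Subgroup.coe_mul, Subgroup.coe_mul, hg] at hu'
  obtain ⟨k, hk⟩ := eq_pow_of_cert cent11 (hg ▸ g.2) u.2 hu'
  exact ⟨k, Subtype.ext (by simp [hg, hk])⟩

theorem sylow_M22 [Fact (Nat.Prime 11)] : Nat.card (Sylow 11 Spor.M22) = 8064 := by
  obtain ⟨x, hx, hC⟩ := exists_x
  obtain ⟨P, hW⟩ := (IsPGroup.of_card (p := 11) (n := 1)
    (by rw [Nat.card_zpowers, hx, pow_one] : Nat.card (Subgroup.zpowers x) = 11 ^ 1)).exists_le_sylow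
  have hP : Nat.card (P : Subgroup Spor.M22) = 11 :=
    Generic.card_P params (by rw [card_spor_M22]) P
  obtain ⟨d, hd, hN⟩ := Generic.normalizer_bound P hP
    (hW (Subgroup.mem_zpowers x)) hC
  have hmul := Cfsg.Agent.Lib.SmallGroups.Sylow.card_normalizer_mul P
  rw [card_spor_M22, hN] at hmul
  have hmod := Cfsg.Agent.Lib.SmallGroups.Sylow.card_sylow_mod (G := Spor.M22) (p := 11)
  have hd' : d ∈ Nat.divisors 10 := Nat.mem_divisors.mpr ⟨hd, by norm_num⟩
  rw [show Nat.divisors 10 = {1, 2, 5, 10} by decide +kernel] at hd'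
  simp only [Finset.mem_insert, Finset.mem_singleton] at hd'
  rcases hd' with rfl | rfl | rfl | rfl <;> omega

/-- A group of that order with those numbers is simple. -/
theorem isSimpleGroup {G : Type*} [Group G] [Finite G]
    (hcard : Nat.card G = Nat.card ↥Cfsg.Spor.M22)
    (hnse : {c : ℕ | 0 < c ∧ ∃ n : ℕ, c = Nat.card {g : G // orderOf g = n}} =
      {c : ℕ | 0 < c ∧ ∃ n : ℕ, c = Nat.card {g : ↥Cfsg.Spor.M22 // orderOf g = n}}) :
    IsSimpleGroup G := by
  haveI : Fact (Nat.Prime 11) := ⟨by norm_num⟩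
  rw [card_spor_M22] at hcard
  obtain ⟨x, hx, hC⟩ := exists_x
  have hn := Generic.sylow_eq (p := 11) (m := 40320) (by norm_num) (by norm_num)
    (by rw [hcard]) (by rw [card_spor_M22]) hx hC hnse
  exact Generic.isSimpleGroup params (by rw [hcard]) (hn.trans sylow_M22)

end Cfsg.Agent.Lib.NseMathieu29.M22
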