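import Cfsg.Agent.Lib.NseMathieu29.Generic
import Cfsg.Agent.S1643
import Cfsg.Agent.Lib.Golay.Simple

/-!
Groups of order `10200960` with the numbers of elements of given order of `M₂₃` are simple.
-/

set_option autoImplicit false
set_option linter.style.haveILetI false

namespace Cfsg.Agent.Lib.NseMathieu29.M23

open Cfsg Cfsg.Agent.Lib.Golay Cfsg.Agent.Lib.Computation
open Cfsg.Agent.Lib.FusionAlperin.MathieuInst Cfsg.Agent.Lib.M24Config.DataL23

theorem params : Generic.Params 23 11 40320 where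
  prime_e := by norm_num
  lt := by norm_num
  one_lt := by norm_num
  cop_p := by norm_num
  cop_e := by norm_num
  small q hq hqd := by
    have hq' : q = 2 ∨ q = 3 ∨ q = 5 ∨ q = 7 := by
      rw [show (40320 : ℕ) = 2 ^ 7 * (3 ^ 2 * (5 * 7)) by norm_num] at hqd
      rcases hq.dvd_mul.mp hqd with h | h
      · exact Or.inl ((Nat.prime_dvd_prime_iff_eq hq Nat.prime_two).mp (hq.dvd_of_dvd_pow h))
      rcases hq.dvd_mul.mp h with h | h
      · exact Or.inr (Or.inl ((Nat.prime_dvd_prime_iff_eq hq Nat.prime_three).mp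
          (hq.dvd_of_dvd_pow h)))
      rcases hq.dvd_mul.mp h with h | h
      · exact Or.inr (Or.inr (Or.inl ((Nat.prime_dvd_prime_iff_eq hq (by norm_num)).mp h)))
      · exact Or.inr (Or.inr (Or.inr ((Nat.prime_dvd_prime_iff_eq hq (by norm_num)).mp h)))
    rcases hq' with rfl | rfl | rfl | rfl
    · exact ⟨7, by norm_num, by decide +kernel⟩
    · exact ⟨2, by norm_num, by decide +kernel⟩
    · exact ⟨1, by norm_num, by decide +kernel⟩
    · exact ⟨1, by norm_num, by decide +kernel⟩

theorem exists_x : ∃ x : Spor.M23, orderOf x = 23 ∧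
    ∀ v : Spor.M23, v * x = x * v → v ∈ Subgroup.zpowers x := by
  haveI : Fact (Nat.Prime 23) := ⟨by norm_num⟩
  obtain ⟨-, -, -, -, hs, hs23, -, hsp, hs1, -⟩ := S1643.facts
  have hok : okCode shiftCode = true := okCode_of_inM24 hs
  let x : Spor.M23 := ⟨gperm shiftCode, gperm_mem_M24 hs, gperm_fix hok idx_none hs23⟩
  refine ⟨x, ?_, S1643.cent_of_cert S1643.cent23 S1643.m23_le S1643.fixNil x rfl⟩
  rw [← Subgroup.orderOf_coe]
  exact S1643.gperm_order (i := 1) hok (by norm_num) hs1 hsp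

theorem sylow_M23 [Fact (Nat.Prime 23)] : Nat.card (Sylow 23 Spor.M23) = 40320 := by
  obtain ⟨x, hx, hC⟩ := exists_x
  obtain ⟨P, hW⟩ := (IsPGroup.of_card (p := 23) (n := 1)
    (by rw [Nat.card_zpowers, hx, pow_one] : Nat.card (Subgroup.zpowers x) = 23 ^ 1)).exists_le_sylow
  have hP : Nat.card (P : Subgroup Spor.M23) = 23 :=
    Generic.card_P params (by rw [card_spor_M23]) P
  obtain ⟨d, hd, hN⟩ := Generic.normalizer_bound P hP
    (hW (Subgroup.mem_zpowers x)) hC
  have hmul := Cfsg.Agent.Lib.SmallGroups.Sylow.card_normalizer_mul P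
  rw [card_spor_M23, hN] at hmul
  have hmod := Cfsg.Agent.Lib.SmallGroups.Sylow.card_sylow_mod (G := Spor.M23) (p := 23)
  have hd' : d ∈ Nat.divisors 22 := Nat.mem_divisors.mpr ⟨hd, by norm_num⟩
  rw [show Nat.divisors 22 = {1, 2, 11, 22} by decide +kernel] at hd'
  simp only [Finset.mem_insert, Finset.mem_singleton] at hd'
  rcases hd' with rfl | rfl | rfl | rfl <;> omega

/-- A group of that order with those numbers is simple. -/
theorem isSimpleGroup {G : Type*} [Group G] [Finite G]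
    (hcard : Nat.card G = Nat.card ↥Cfsg.Spor.M23)
    (hnse : {c : ℕ | 0 < c ∧ ∃ n : ℕ, c = Nat.card {g : G // orderOf g = n}} =
      {c : ℕ | 0 < c ∧ ∃ n : ℕ, c = Nat.card {g : ↥Cfsg.Spor.M23 // orderOf g = n}}) :
    IsSimpleGroup G := by
  haveI : Fact (Nat.Prime 23) := ⟨by norm_num⟩
  rw [card_spor_M23] at hcard
  obtain ⟨x, hx, hC⟩ := exists_x
  have hn := Generic.sylow_eq (p := 23) (m := 443520) (by norm_num) (by norm_num)
    (by rw [hcard]) (by rw [card_spor_M23]) hx hC hnse
  exact Generic.isSimpleGroup params (by rw [hcard]) (hn.trans sylow_M23)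

end Cfsg.Agent.Lib.NseMathieu29.M23
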